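import Mathlib
import Groth.Prelude.Def_DeltaF
import Groth.Prelude.Def_RDerDelta
import Groth.Agent.Lib.Helper3.DC4
import Groth.Agent.Lib.Helper3.DC5
import Groth.Agent.Lib.Helper3.FreeQI
import Groth.Agent.Lib.Helper3.SS2
import Groth.Agent.Lib.Helper3.DeltaIso2
import Groth.Agent.Lib.Helper3.RDerL
import Groth.Agent.Lib.Helper3.PShInst

/-!
# Cohomology of cosimplicial abelian groups as derived functors

For a small category `C` with a simplicial object `σ` and a resolution `π` of a presheaf `P` by the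
free abelian presheaves on the `σ_n`, the right derived functors of `Hom(P, -)` are the cohomology of
the complexes `M(σ_•)`.  This is applied to the (small model of the) category `Δᵒᵖ`, where presheaves
are cosimplicial abelian groups.
-/

set_option autoImplicit false
set_option backward.isDefEq.respectTransparency false
universe u
open CategoryTheory Limits Opposite Simplicial DeltaF
open Groth.Agent.Helper3

namespace Groth.Agent.Lib.Helper6.HyperSS

noncomputable section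

attribute [local instance] PShInst.isGrothendieckAbelian_psh

section generic

variable {C : Type u} [SmallCategory C] (σ : SimplicialObject C) {P : Cᵒᵖ ⥤ AddCommGrpCat.{u}}
  (π : DC4.freeCx σ ⟶ (ChainComplex.single₀ _).obj P)

/-- morphisms out of `P` -/
abbrev SP (P : Cᵒᵖ ⥤ AddCommGrpCat.{u}) : (Cᵒᵖ ⥤ AddCommGrpCat.{u}) ⥤ AddCommGrpCat.{u} :=
  preadditiveCoyoneda.obj (op P)

/-- the map to the degree zero term of the complex -/
def cycHom (M : Cᵒᵖ ⥤ AddCommGrpCat.{u}) : (SP P).obj M ⟶ ((DC4.CCF σ).obj M).X 0 :=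
  AddCommGrpCat.ofHom
    { toFun := fun f => DC4.yE (σ _⦋0⦌) M (π.f 0 ≫ f)
      map_zero' := by rw [comp_zero, map_zero]
      map_add' := fun f g => by rw [Preadditive.comp_add, map_add] }

lemma cycHom_apply (M : Cᵒᵖ ⥤ AddCommGrpCat.{u}) (f : P ⟶ M) :
    (cycHom σ π M).hom f = DC4.yE (σ _⦋0⦌) M (π.f 0 ≫ f) := rfl

lemma cycHom_d (M : Cᵒᵖ ⥤ AddCommGrpCat.{u}) :
    cycHom σ π M ≫ ((DC4.CCF σ).obj M).d 0 1 = 0 := by
  ext f
  exact DC4.d_yE_π σ M π f

/-- the map to the `0`-cocycles -/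
def toCyc (M : Cᵒᵖ ⥤ AddCommGrpCat.{u}) :
    (SP P).obj M ⟶ ((DC4.CCF σ).obj M).cycles 0 :=
  ((DC4.CCF σ).obj M).liftCycles (cycHom σ π M) 1 (by simp) (cycHom_d σ π M)

lemma toCyc_i (M : Cᵒᵖ ⥤ AddCommGrpCat.{u}) :
    toCyc σ π M ≫ ((DC4.CCF σ).obj M).iCycles 0 = cycHom σ π M :=
  HomologicalComplex.liftCycles_i _ _ _ _ _

lemma cycHom_naturality {M M' : Cᵒᵖ ⥤ AddCommGrpCat.{u}} (g : M ⟶ M') :
    (SP P).map g ≫ cycHom σ π M' = cycHom σ π M ≫ ((DC4.CCF σ).map g).f 0 := by
  ext f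
  change DC4.yE (σ _⦋0⦌) M' (π.f 0 ≫ f ≫ g) =
    (g.app (op (σ _⦋0⦌))).hom (DC4.yE (σ _⦋0⦌) M (π.f 0 ≫ f))
  rw [← Category.assoc]
  exact DC4.yE_comp _ _ g

lemma toCyc_naturality {M M' : Cᵒᵖ ⥤ AddCommGrpCat.{u}} (g : M ⟶ M') :
    (SP P).map g ≫ toCyc σ π M' =
      toCyc σ π M ≫ HomologicalComplex.cyclesMap ((DC4.CCF σ).map g) 0 := by
  rw [← cancel_mono (((DC4.CCF σ).obj M').iCycles 0), Category.assoc, Category.assoc,
    toCyc_i, HomologicalComplex.cyclesMap_i, ← Category.assoc, toCyc_i]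
  exact cycHom_naturality σ π g

variable [QuasiIso π]

instance isIso_toCyc (M : Cᵒᵖ ⥤ AddCommGrpCat.{u}) : IsIso (toCyc σ π M) := by
  rw [ConcreteCategory.isIso_iff_bijective]
  have hi : Function.Injective (((DC4.CCF σ).obj M).iCycles 0).hom :=
    (AddCommGrpCat.mono_iff_injective _).1 inferInstance
  have hcomp : ∀ y, (((DC4.CCF σ).obj M).iCycles 0).hom ((toCyc σ π M).hom y) =
      DC4.yE (σ _⦋0⦌) M (π.f 0 ≫ y) := fun y =>
    ConcreteCategory.congr_hom (toCyc_i σ π M) y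
  constructor
  · intro y y' h
    apply DC4.yE_π_injective σ M π
    rw [← hcomp, ← hcomp, h]
  · intro z
    have hd : (((DC4.CCF σ).obj M).d 0 1).hom ((((DC4.CCF σ).obj M).iCycles 0).hom z) = 0 :=
      ConcreteCategory.congr_hom (((DC4.CCF σ).obj M).iCycles_d 0 1) z
    obtain ⟨y, hy⟩ := DC4.exists_of_cycle σ M π _ hd
    refine ⟨y, hi ?_⟩
    rw [hcomp, hy]

/-- `Hom(P, -)` is the `0`-th cohomology of the complexes `M(σ_•)` -/
def spIso : SP P ≅ DC4.CCF σ ⋙ HomologicalComplex.homologyFunctor _ _ 0 :=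
  NatIso.ofComponents
    (fun N => asIso (toCyc σ π N) ≪≫ ((DC4.CCF σ).obj N).isoHomologyπ₀)
    (fun {N N'} g => by
      change (SP P).map g ≫ toCyc σ π N' ≫ ((DC4.CCF σ).obj N').homologyπ 0 =
        (toCyc σ π N ≫ ((DC4.CCF σ).obj N).homologyπ 0) ≫
          HomologicalComplex.homologyMap ((DC4.CCF σ).map g) 0
      rw [← Category.assoc, toCyc_naturality, Category.assoc, Category.assoc,
        HomologicalComplex.homologyπ_naturality])

variable (P) in
/-- the δ-functor of the derived functors of `Hom(P, -)` -/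
def T₂ : CohDeltaFunctor (Cᵒᵖ ⥤ AddCommGrpCat.{u}) AddCommGrpCat.{u} ℕ :=
  (RDerL.derivedLES (SP P)).toCohDeltaFunctor

omit [QuasiIso π] in
lemma T₂_eff : (T₂ P).IsEffaceable := by
  intro n X
  refine ⟨Injective.under X, Injective.ι X, inferInstance, ?_⟩
  exact (Functor.isZero_rightDerived_obj_injective_succ (SP P) n (Injective.under X)).eq_of_tgt _ _

/-- the comparison in degree zero -/
def t0 : (T₂ P).F 0 ≅ (SS2.ccfDelta σ).F 0 :=
  (SP P).rightDerivedZeroIsoSelf ≪≫ spIso σ π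

/-- the derived functors of `Hom(P, -)` are the cohomology of the complexes `M(σ_•)` -/
def rightDerivedIso (p : ℕ) :
    (SP P).rightDerived p ≅ DC4.CCF σ ⋙ HomologicalComplex.homologyFunctor _ _ p :=
  DeltaIso2.isoOfZero (T₂ P) (SS2.ccfDelta σ) T₂_eff
    (SS2.ccfDelta_effaceable σ π) (t0 σ π) p

end generic

section simplex

/-- The small category indexing cosimplicial objects. -/
abbrev C₀ : Type u := AsSmall.{u} SimplexCategoryᵒᵖ

/-- The tautological simplicial object. -/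
abbrev σ₀ : SimplicialObject C₀.{u} :=
  (AsSmall.up : SimplexCategoryᵒᵖ ⥤ AsSmall.{u} SimplexCategoryᵒᵖ)

/-- The augmented simplicial presheaf of sets `Hom(-, σ₀ •) ⟶ *`. -/
def Aset : SimplicialObject.Augmented (C₀.{u}ᵒᵖ ⥤ Type u) where
  left := σ₀ ⋙ yoneda
  right := (Functor.const C₀.{u}ᵒᵖ).obj PUnit.{u + 1}
  hom :=
    { app := fun n =>
        { app := fun t => ↾fun _ => PUnit.unit
          naturality := fun _ _ _ => by
            ext
            rfl }
      naturality := fun _ _ _ => by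
        ext
        rfl }

open SSet.Augmented.StandardSimplex in
/-- the pointwise extra degeneracy -/
def edPt (t : C₀.{u}ᵒᵖ) :
    SimplicialObject.Augmented.ExtraDegeneracy (FreeQI.evalAug Aset.{u} t) where
  s' := ↾fun _ =>
    (ULift.up (SimplexCategory.const ⦋0⦌ (ULift.down t.unop).unop 0).op : t.unop ⟶ σ₀.obj (op ⦋0⦌))
  s n := ↾fun (g : t.unop ⟶ σ₀.obj (op ⦋n⦌)) =>
    (ULift.up (shift (ULift.down g).unop).op : t.unop ⟶ σ₀.obj (op ⦋n + 1⦌))
  s'_comp_ε := by
    ext
    rfl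
  s₀_comp_δ₁ := by
    ext g
    apply ULift.ext
    exact congrArg Quiver.Hom.op (DC5.δ_one_shift (ULift.down g).unop)
  s_comp_δ₀ n := by
    ext g
    apply ULift.ext
    exact congrArg Quiver.Hom.op (DC5.δ_zero_shift (ULift.down g).unop)
  s_comp_δ n i := by
    ext g
    apply ULift.ext
    exact congrArg Quiver.Hom.op (DC5.δ_succ_shift (ULift.down g).unop i)
  s_comp_σ n i := by
    ext g
    apply ULift.ext
    exact congrArg Quiver.Hom.op (DC5.σ_succ_shift (ULift.down g).unop i)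

/-- The constant presheaf `ℤ` on `C₀` (free on the terminal presheaf). -/
abbrev Pℤ : C₀.{u}ᵒᵖ ⥤ AddCommGrpCat.{u} :=
  (Functor.const C₀.{u}ᵒᵖ).obj PUnit.{u + 1} ⋙ AddCommGrpCat.free.{u}

/-- the resolution of the constant presheaf by the free presheaves on the standard simplices -/
def π₀ : DC4.freeCx σ₀.{u} ⟶ (ChainComplex.single₀ _).obj Pℤ.{u} :=
  AlgebraicTopology.AlternatingFaceMapComplex.ε.app (FreeQI.freeAug Aset.{u})

instance quasiIso_π₀ : QuasiIso π₀.{u} :=
  FreeQI.quasiIso_ε_freeAug Aset.{u} (fun t => ⟨edPt t⟩)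

/-- global sections of cosimplicial abelian groups -/
abbrev S₀ : (C₀.{u}ᵒᵖ ⥤ AddCommGrpCat.{u}) ⥤ AddCommGrpCat.{u} := SP Pℤ.{u}

/-- the derived functors of `S₀` are the cohomology of the associated cochain complexes -/
def rightDerivedIso₀ (p : ℕ) :
    S₀.{u}.rightDerived p ≅ DC4.CCF σ₀.{u} ⋙ HomologicalComplex.homologyFunctor _ _ p :=
  rightDerivedIso σ₀.{u} π₀.{u} p

end simplex

end

end Groth.Agent.Lib.Helper6.HyperSS
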