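import Mathlib
import Groth.Prelude.Def_Hyper
import Groth.Agent.Lib.Helper6.HyperSS.Base
import Groth.Agent.Lib.Helper6.HyperQI.CechSES
import Groth.Agent.Lib.Helper3.CohPre

/-!
# The cosimplicial abelian group of a presheaf along a simplicial semi-representable object
-/

set_option autoImplicit false
set_option backward.isDefEq.respectTransparency false
universe u
open CategoryTheory Limits Opposite Simplicial
open Groth.Agent.Helper3

namespace Groth.Agent.Lib.Helper6.HyperSS

noncomputable section

attribute [local instance] PShInst.isGrothendieckAbelian_psh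

lemma shortExact_of_evaluation {T V : Type*} [Category T] [Category V] [Abelian V]
    (S : ShortComplex (T ⥤ V))
    (h : ∀ j, (S.map ((evaluation T V).obj j)).ShortExact) : S.ShortExact := by
  have hex : S.Exact := by
    rw [ShortComplex.exact_iff_isZero_homology, Functor.isZero_iff]
    intro j
    have hj := (h j).exact
    rw [ShortComplex.exact_iff_isZero_homology] at hj
    exact IsZero.of_iso hj (S.mapHomologyIso ((evaluation T V).obj j)).symm
  haveI : Mono S.f := by
    rw [NatTrans.mono_iff_mono_app]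
    intro j
    exact (h j).mono_f
  haveI : Epi S.g := by
    rw [NatTrans.epi_iff_epi_app]
    intro j
    exact (h j).epi_g
  exact ShortComplex.ShortExact.mk hex

variable {C : Type u} [SmallCategory C] (J : GrothendieckTopology C)
  (K : SimplicialObject (FormalCoproduct.{u} C))

instance evalOp_additive : (FormalCoproduct.evalOp C AddCommGrpCat.{u}).Additive where
  map_add {P Q α β} := by
    apply NatTrans.ext
    funext X
    show Limits.Pi.map (fun i : X.unop.I => (α + β).app (op (X.unop.obj i))) =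
      Limits.Pi.map (fun i : X.unop.I => α.app (op (X.unop.obj i))) +
        Limits.Pi.map (fun i : X.unop.I => β.app (op (X.unop.obj i)))
    refine Pi.hom_ext _ _ (fun i => ?_)
    rw [Preadditive.add_comp, Limits.Pi.map_π, Limits.Pi.map_π, Limits.Pi.map_π,
      NatTrans.app_add, Preadditive.comp_add]

/-- the cosimplicial abelian group `n ↦ ∏ᵢ P(K_{n,i})`, as a presheaf on `C₀` -/
abbrev T₁' : (Cᵒᵖ ⥤ AddCommGrpCat.{u}) ⥤ (C₀.{u}ᵒᵖ ⥤ AddCommGrpCat.{u}) :=
  FormalCoproduct.evalOp C AddCommGrpCat.{u} ⋙
    (Functor.whiskeringLeft C₀.{u}ᵒᵖ (FormalCoproduct.{u} C)ᵒᵖ AddCommGrpCat.{u}).obj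
      (AsSmall.down ⋙ K).op

instance : (T₁' K).Additive := inferInstance

/-- the same on presheaves viewed as sheaves for the trivial topology -/
abbrev T₁ : Sheaf (⊥ : GrothendieckTopology C) AddCommGrpCat.{u} ⥤
    (C₀.{u}ᵒᵖ ⥤ AddCommGrpCat.{u}) :=
  sheafToPresheaf (⊥ : GrothendieckTopology C) AddCommGrpCat.{u} ⋙ T₁' K

instance : (T₁ K).Additive := inferInstance

/-- the same on sheaves -/
abbrev TT : Sheaf J AddCommGrpCat.{u} ⥤ (C₀.{u}ᵒᵖ ⥤ AddCommGrpCat.{u}) :=
  CohPre.T C J ⋙ T₁ K

instance : (TT J K).Additive := inferInstance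

instance isEquivalence_sheafToPresheaf_bot :
    (sheafToPresheaf (⊥ : GrothendieckTopology C) AddCommGrpCat.{u}).IsEquivalence :=
  (sheafBotEquivalence (C := C) AddCommGrpCat.{u}).isEquivalence_functor

lemma T₁_shortExact (S : ShortComplex (Sheaf (⊥ : GrothendieckTopology C) AddCommGrpCat.{u}))
    (hS : S.ShortExact) : (S.map (T₁ K)).ShortExact := by
  apply shortExact_of_evaluation
  intro c
  have hU : ∀ U : C, (S.map (sheafToPresheaf (⊥ : GrothendieckTopology C) AddCommGrpCat.{u} ⋙
      (evaluation Cᵒᵖ AddCommGrpCat.{u}).obj (op U))).ShortExact := fun U => hS.map_of_exact _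
  exact Groth.Agent.Lib.Helper6.HyperQI.abPi_shortExact
    (fun i : (K.obj (AsSmall.down.obj c.unop)).I =>
      ((sheafToPresheaf _ _).map S.f).app (op ((K.obj (AsSmall.down.obj c.unop)).obj i)))
    (fun i : (K.obj (AsSmall.down.obj c.unop)).I =>
      ((sheafToPresheaf _ _).map S.g).app (op ((K.obj (AsSmall.down.obj c.unop)).obj i)))
    ((S.map (T₁ K)).map ((evaluation _ _).obj c)).zero
    (fun i => (AddCommGrpCat.mono_iff_injective _).1 (hU _).mono_f)
    (fun i => (AddCommGrpCat.epi_iff_surjective _).1 (hU _).epi_g)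
    (fun i y hy => (ShortComplex.ab_exact_iff _).1 (hU _).exact y hy)

instance T₁_preservesHomology : (T₁ K).PreservesHomology :=
  ((Functor.exact_tfae (T₁ K)).out 0 2).1 (T₁_shortExact K)

/-- comparison of cosimplicial objects -/
def cosIso (P : Cᵒᵖ ⥤ AddCommGrpCat.{u}) :
    σ₀.{u}.rightOp ⋙ (T₁' K).obj P ≅ (FormalCoproduct.cosimplicialObjectFunctor K).obj P :=
  NatIso.ofComponents (fun n => Iso.refl _) (fun {n m} f => by
    rw [Iso.refl_hom, Iso.refl_hom, Category.comp_id, Category.id_comp]
    rfl)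

/-- the cochain complex of the cosimplicial group of `P` is the Čech complex of `P` -/
def ccIso : T₁' K ⋙ DC4.CCF σ₀.{u} ≅ FormalCoproduct.cochainComplexFunctor K :=
  NatIso.ofComponents
    (fun P => (AlgebraicTopology.alternatingCofaceMapComplex _).mapIso (cosIso K P))
    (fun {P Q} α => by
      apply HomologicalComplex.hom_ext
      intro n
      change ((T₁' K).map α).app (op (σ₀.{u}.obj (op ⦋n⦌))) ≫ 𝟙 _ =
        𝟙 _ ≫ ((FormalCoproduct.evalOp C AddCommGrpCat.{u}).map α).app (op (K.obj (op ⦋n⦌)))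
      rw [Category.comp_id, Category.id_comp]
      rfl)

end

end Groth.Agent.Lib.Helper6.HyperSS
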