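import Mathlib
import Groth.Prelude.Def_Hyper
import Groth.Agent.Lib.Helper6.HyperSS.Base
import Groth.Agent.Lib.Helper6.HyperSS.Exact
import Groth.Agent.Lib.Helper6.HyperQI.CechHom
import Groth.Agent.Lib.Helper6.HyperQI.CechSES
import Groth.Agent.S3091

/-!
# Global sections as the degree zero Čech cohomology of a hypercovering, functorially
-/

set_option autoImplicit false
set_option backward.isDefEq.respectTransparency false
universe u
open CategoryTheory Limits Opposite Simplicial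
open Groth.Agent.Helper3 Groth.Agent.Lib.Helper6.HyperQI

namespace Groth.Agent.Lib.Helper6.HyperSS

noncomputable section

attribute [local instance] PShInst.isGrothendieckAbelian_psh

variable {C : Type u} [SmallCategory C] (J : GrothendieckTopology C)
  (K : SimplicialObject (FormalCoproduct.{u} C))

/-- the chain complex `ℤ[K]^#` -/
abbrev XK : ChainComplex (Sheaf J AddCommGrpCat.{u}) ℕ := Hyper.freeChainCx J K

/-- the Čech complex of a sheaf -/
abbrev Ccx (F : Sheaf J AddCommGrpCat.{u}) : CochainComplex AddCommGrpCat.{u} ℕ :=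
  (FormalCoproduct.cochainComplexFunctor K).obj ((sheafToPresheaf J AddCommGrpCat.{u}).obj F)

lemma PsiApp_comp {F F' : Sheaf J AddCommGrpCat.{u}} (h : F ⟶ F') (X : FormalCoproduct.{u} C)
    (g : (Lsh J).obj (FY.obj X) ⟶ F) :
    PsiApp J F' X (g ≫ h) =
      Limits.Pi.map (fun i : X.I => ((sheafToPresheaf J _).map h).app (op (X.obj i)))
        (PsiApp J F X g) := by
  apply abPi_ext
  intro i
  have h1 := PsiApp_π J F' X i (g ≫ h)
  have h2 := abPi_map_π (fun i : X.I => ((sheafToPresheaf J _).map h).app (op (X.obj i))) i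
    (PsiApp J F X g)
  have h3 := PsiApp_π J F X i g
  refine h1.trans (Eq.trans ?_ (h2.trans (congrArg _ h3)).symm)
  rfl

lemma he' (F : Sheaf J AddCommGrpCat.{u}) (n : ℕ) (g : (XK J K).X n ⟶ F) :
    (PsiApp J F (K _⦋n + 1⦌)).hom ((XK J K).d (n + 1) n ≫ g) =
      ((Ccx J K F).d n (n + 1)).hom ((PsiApp J F (K _⦋n⦌)).hom g) := by
  have hL : (XK J K).d (n + 1) n =
      ∑ j : Fin (n + 2), (-1 : ℤ) ^ (j : ℕ) •
        SimplicialObject.δ (Hyper.freeSimplicialSheaf J K) j :=
    AlgebraicTopology.AlternatingFaceMapComplex.obj_d_eq _ n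
  have hR : (Ccx J K F).d n (n + 1) =
      ∑ j : Fin (n + 2), (-1 : ℤ) ^ (j : ℕ) •
        CosimplicialObject.δ ((FormalCoproduct.cosimplicialObjectFunctor K).obj
          ((sheafToPresheaf J AddCommGrpCat.{u}).obj F)) j := by
    rw [FormalCoproduct.cochainComplexFunctor_obj_d, CochainComplex.of_d]
    rfl
  rw [hL, hR, Preadditive.sum_comp, map_sum]
  refine Eq.trans ?_ (CechExtG.hom_sum_apply _ _ _).symm
  refine Finset.sum_congr rfl fun j _ => ?_
  rw [Preadditive.zsmul_comp, map_zsmul]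
  refine Eq.trans ?_ (CechExtG.hom_zsmul_apply _ _ _).symm
  congr 1
  exact ConcreteCategory.congr_hom ((PsiNat J F).naturality (K.δ j).op) g

/-- morphisms out of the degree zero opcycles of `ℤ[K]^#` -/
abbrev SQ : Sheaf J AddCommGrpCat.{u} ⥤ AddCommGrpCat.{u} :=
  preadditiveCoyoneda.obj (op ((XK J K).opcycles 0))

/-- evaluation of morphisms out of the degree zero opcycles -/
def cHom (F : Sheaf J AddCommGrpCat.{u}) : (SQ J K).obj F ⟶ (Ccx J K F).X 0 :=
  AddCommGrpCat.ofHom
    { toFun := fun f => (PsiApp J F (K _⦋0⦌)).hom ((XK J K).pOpcycles 0 ≫ f)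
      map_zero' := by rw [comp_zero, map_zero]
      map_add' := fun f g => by rw [Preadditive.comp_add, map_add] }

lemma cHom_apply (F : Sheaf J AddCommGrpCat.{u}) (f : (XK J K).opcycles 0 ⟶ F) :
    (cHom J K F).hom f = (PsiApp J F (K _⦋0⦌)).hom ((XK J K).pOpcycles 0 ≫ f) := rfl

lemma cHom_d (F : Sheaf J AddCommGrpCat.{u}) : cHom J K F ≫ (Ccx J K F).d 0 1 = 0 := by
  ext f
  have h := he' J K F 0 ((XK J K).pOpcycles 0 ≫ f)
  refine h.symm.trans ?_
  rw [← Category.assoc, HomologicalComplex.d_pOpcycles, zero_comp, map_zero]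
  rfl

/-- the map to the `0`-cocycles -/
def toCyc' (F : Sheaf J AddCommGrpCat.{u}) : (SQ J K).obj F ⟶ (Ccx J K F).cycles 0 :=
  (Ccx J K F).liftCycles (cHom J K F) 1 (by simp) (cHom_d J K F)

lemma toCyc'_i (F : Sheaf J AddCommGrpCat.{u}) :
    toCyc' J K F ≫ (Ccx J K F).iCycles 0 = cHom J K F :=
  HomologicalComplex.liftCycles_i _ _ _ _ _

lemma cHom_naturality {F F' : Sheaf J AddCommGrpCat.{u}} (h : F ⟶ F') :
    (SQ J K).map h ≫ cHom J K F' = cHom J K F ≫
      ((FormalCoproduct.cochainComplexFunctor K).map ((sheafToPresheaf J _).map h)).f 0 := by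
  ext f
  change (PsiApp J F' (K _⦋0⦌)).hom ((XK J K).pOpcycles 0 ≫ f ≫ h) =
    Limits.Pi.map (fun i : (K _⦋0⦌).I => ((sheafToPresheaf J _).map h).app (op ((K _⦋0⦌).obj i)))
      ((PsiApp J F (K _⦋0⦌)).hom ((XK J K).pOpcycles 0 ≫ f))
  rw [← Category.assoc]
  exact PsiApp_comp J h (K _⦋0⦌) _

lemma toCyc'_naturality {F F' : Sheaf J AddCommGrpCat.{u}} (h : F ⟶ F') :
    (SQ J K).map h ≫ toCyc' J K F' = toCyc' J K F ≫ HomologicalComplex.cyclesMap
      ((FormalCoproduct.cochainComplexFunctor K).map ((sheafToPresheaf J _).map h)) 0 := by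
  rw [← cancel_mono ((Ccx J K F').iCycles 0), Category.assoc, Category.assoc,
    toCyc'_i, HomologicalComplex.cyclesMap_i, ← Category.assoc, toCyc'_i]
  exact cHom_naturality J K h

instance isIso_toCyc' (F : Sheaf J AddCommGrpCat.{u}) : IsIso (toCyc' J K F) := by
  rw [ConcreteCategory.isIso_iff_bijective]
  have hi : Function.Injective ((Ccx J K F).iCycles 0).hom :=
    (AddCommGrpCat.mono_iff_injective _).1 inferInstance
  have hcomp : ∀ y, ((Ccx J K F).iCycles 0).hom ((toCyc' J K F).hom y) =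
      (PsiApp J F (K _⦋0⦌)).hom ((XK J K).pOpcycles 0 ≫ y) := fun y =>
    ConcreteCategory.congr_hom (toCyc'_i J K F) y
  constructor
  · intro y y' h
    have h1 : (PsiApp J F (K _⦋0⦌)).hom ((XK J K).pOpcycles 0 ≫ y) =
        (PsiApp J F (K _⦋0⦌)).hom ((XK J K).pOpcycles 0 ≫ y') := by
      rw [← hcomp, ← hcomp, h]
    have h2 := (PsiApp_bijective J F (K _⦋0⦌)).1 h1
    exact (cancel_epi ((XK J K).pOpcycles 0)).1 h2
  · intro z
    have hd : ((Ccx J K F).d 0 1).hom (((Ccx J K F).iCycles 0).hom z) = 0 :=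
      ConcreteCategory.congr_hom ((Ccx J K F).iCycles_d 0 1) z
    obtain ⟨g, hg⟩ := (PsiApp_bijective J F (K _⦋0⦌)).2 (((Ccx J K F).iCycles 0).hom z)
    have hg0 : (XK J K).d 1 0 ≫ g = 0 := by
      apply (PsiApp_bijective J F (K _⦋0 + 1⦌)).1
      refine (he' J K F 0 g).trans ?_
      refine (congrArg ((Ccx J K F).d 0 1).hom hg).trans ?_
      exact hd.trans (map_zero (PsiApp J F (K _⦋0 + 1⦌)).hom).symm
    refine ⟨(XK J K).descOpcycles g 1 (by simp) hg0, hi ?_⟩
    rw [hcomp, HomologicalComplex.p_descOpcycles]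
    exact hg

/-- `Hom(opcycles₀ ℤ[K]^#, -)` is the degree zero Čech cohomology -/
def qIso : SQ J K ≅ sheafToPresheaf J AddCommGrpCat.{u} ⋙
    FormalCoproduct.cochainComplexFunctor K ⋙ HomologicalComplex.homologyFunctor _ _ 0 :=
  NatIso.ofComponents
    (fun F => asIso (toCyc' J K F) ≪≫ (Ccx J K F).isoHomologyπ₀)
    (fun {F F'} h => by
      change (SQ J K).map h ≫ toCyc' J K F' ≫ (Ccx J K F').homologyπ 0 =
        (toCyc' J K F ≫ (Ccx J K F).homologyπ 0) ≫ HomologicalComplex.homologyMap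
          ((FormalCoproduct.cochainComplexFunctor K).map ((sheafToPresheaf J _).map h)) 0
      rw [← Category.assoc, toCyc'_naturality, Category.assoc, Category.assoc,
        HomologicalComplex.homologyπ_naturality])

/-- the complex of the cosimplicial group of a sheaf is its Čech complex -/
def ccIsoSh : TT J K ⋙ DC4.CCF σ₀.{u} ≅
    sheafToPresheaf J AddCommGrpCat.{u} ⋙ FormalCoproduct.cochainComplexFunctor K :=
  NatIso.ofComponents (fun F => (ccIso K).app ((sheafToPresheaf J _).obj F))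
    (fun {F F'} h => (ccIso K).hom.naturality ((sheafToPresheaf J _).map h))

variable [HasPullbacks C] [HasBinaryProducts C]
  [∀ (n : ℕ) (F : (SimplexCategory.Truncated n)ᵒᵖ ⥤ FormalCoproduct.{u} C),
    (SimplexCategory.Truncated.inclusion n).op.HasRightKanExtension F]

theorem nonempty_compIso (hK : Hyper.IsHypercoveringSite J K) :
    Nonempty (TT J K ⋙ S₀.{u} ≅ preadditiveCoyoneda.obj
      (op ((constantSheaf J AddCommGrpCat.{u}).obj (AddCommGrpCat.of (ULift.{u} ℤ))))) := by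
  obtain ⟨-, ⟨e0⟩⟩ := Groth.Agent.S3091.result J K hK
  let e : (constantSheaf J AddCommGrpCat.{u}).obj (AddCommGrpCat.of (ULift.{u} ℤ)) ≅
      (XK J K).opcycles 0 := e0.symm ≪≫ (XK J K).isoHomologyι₀
  exact ⟨Functor.isoWhiskerLeft (TT J K) (spIso σ₀.{u} π₀.{u}) ≪≫
    (Functor.associator _ _ _).symm ≪≫
    Functor.isoWhiskerRight (ccIsoSh J K) (HomologicalComplex.homologyFunctor _ _ 0) ≪≫
    Functor.associator _ _ _ ≪≫ (qIso J K).symm ≪≫ preadditiveCoyoneda.mapIso e.op⟩

end

end Groth.Agent.Lib.Helper6.HyperSS
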