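import Mathlib
import Groth.Prelude.Def_Hyper
import Groth.Prelude.Def_SpSeq
import Groth.Agent.Lib.Helper6.HyperSS.Base
import Groth.Agent.Lib.Helper6.HyperSS.Exact
import Groth.Agent.Lib.Helper6.HyperSS.Abut
import Groth.Agent.Lib.Helper3.GSS
import Groth.Agent.Lib.Helper3.ExtRD
import Groth.Agent.Lib.Helper3.AbutIf
import Groth.Agent.Lib.Helper3.CohPre
import Groth.Agent.Lib.Helper5.Misc.RDComp
import Groth.Agent.S0940

/-!
# The spectral sequence of a hypercovering of the final object (Verdier's sense)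

Grothendieck spectral sequence for the composite of `F ↦ (n ↦ ∏ᵢ F(K_{n,i}))`, from abelian sheaves
to cosimplicial abelian groups, with the functor of global sections of cosimplicial abelian groups.
-/

set_option autoImplicit false
set_option backward.isDefEq.respectTransparency false
universe u
open CategoryTheory Limits Opposite Simplicial
open Groth.Agent.Helper3

namespace Groth.Agent.Lib.Helper6.HyperSS

noncomputable section

attribute [local instance] PShInst.isGrothendieckAbelian_psh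

variable {C : Type u} [SmallCategory C] [HasEqualizers C] [HasPullbacks C] [HasBinaryProducts C]
  (J : GrothendieckTopology C) (K : SimplicialObject (FormalCoproduct.{u} C))
  [∀ (n : ℕ) (F : (SimplexCategory.Truncated n)ᵒᵖ ⥤ FormalCoproduct.{u} C),
    (SimplexCategory.Truncated.inclusion n).op.HasRightKanExtension F]

theorem main (hK : Hyper.IsHypercoveringSite J K) (F : Sheaf J AddCommGrpCat.{u}) :
    ∃ (E : E₂CohomologicalSpectralSequence AddCommGrpCat.{u})
      (a : SpSeq.Abutment E (fun n : ℤ =>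
        if 0 ≤ n then AddCommGrpCat.of (Sheaf.H F n.toNat) else AddCommGrpCat.of PUnit.{u + 1})),
      (∀ n, a.IsFinite n) ∧ SpSeq.IsBounded E ∧
      ∀ p q : ℤ, Nonempty ((E.page 2 le_rfl).X (p, q) ≅
        (if 0 ≤ p ∧ 0 ≤ q then
          (Hyper.cechCxSite K (Sheaf.cohomologyPresheaf F q.toNat)).homology p.toNat
         else AddCommGrpCat.of PUnit.{u + 1})) := by
  have hT : ∀ Q : Sheaf J AddCommGrpCat.{u}, Injective Q → ∀ q : ℕ, 0 < q →
      IsZero ((S₀.{u}.rightDerived q).obj ((TT J K).obj Q)) := by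
    intro Q hQ q hq
    obtain ⟨m, rfl⟩ : ∃ m, q = m + 1 := ⟨q - 1, by omega⟩
    haveI := hQ
    have hz := (Groth.Agent.S0940.result J K hK Q).1 m
    exact IsZero.of_iso hz ((rightDerivedIso₀.{u} (m + 1)).app ((TT J K).obj Q) ≪≫
      (HomologicalComplex.homologyFunctor _ _ (m + 1)).mapIso ((ccIso K).app Q.obj))
  obtain ⟨E, a, hfin, hbdd, hE⟩ := GSS.main' (TT J K) S₀.{u} hT F
  obtain ⟨compIso⟩ := nonempty_compIso J K hK
  obtain ⟨a', ha'⟩ := AbutIf.exists_abutment_if
    (fun k => ((TT J K ⋙ S₀.{u}).rightDerived k).obj F)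
    (fun k => AddCommGrpCat.of (Sheaf.H F k)) a hfin
    (fun k => ⟨ExtRD.rightDerivedIsoExt (TT J K ⋙ S₀.{u}) _ compIso F k⟩)
  refine ⟨E, a', ha', hbdd, ?_⟩
  intro p q
  refine AbutIf.nonempty_iso_if _ (hE p q) ⟨?_⟩
  exact (S₀.{u}.rightDerived p.toNat).mapIso
      (Groth.Agent.Lib.Helper5.Misc.RDComp.postIso (CohPre.T C J) (T₁ K) F q.toNat ≪≫
        (T₁ K).mapIso (CohPre.rightDerivedIso J F q.toNat)) ≪≫
    (rightDerivedIso₀.{u} p.toNat).app _ ≪≫
    (HomologicalComplex.homologyFunctor _ _ p.toNat).mapIso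
      ((ccIso K).app (F.cohomologyPresheaf q.toNat))

end

end Groth.Agent.Lib.Helper6.HyperSS
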